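import Groth.Agent.Lib.AlgSpDecent.MonoPointApps
import Groth.Agent.Lib.AlgSpDecent.Basic
import Groth.Agent.Lib.AlgSpace.UI
import Groth.Prelude.Def_AlgSpDec

/-!
# Elementary etale neighbourhoods form a cofiltered system
-/

universe u

set_option backward.isDefEq.respectTransparency.types false

open CategoryTheory CategoryTheory.Limits AlgebraicGeometry AlgSp

namespace Groth.Agent.ElemNbhd15

open Groth.Agent.AlgSpDecent

variable {S : Scheme.{u}} {F : Sp S}

/-- The residue field spectrum of a point, over `S`. -/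
noncomputable abbrev ptOf {U : Over S} (u : U.left) : Over S := Over.mk (U.left.fromSpecResidueField u ≫ U.hom)

/-- The residue field spectrum of a point maps to the scheme. -/
noncomputable abbrev jOf {U : Over S} (u : U.left) : ptOf u ⟶ U :=
  Over.homMk (U.left.fromSpecResidueField u) rfl

instance {U : Over S} (u : U.left) : Mono (jOf u) :=
  (Over.forget S).mono_of_mono_map (inferInstanceAs (Mono (U.left.fromSpecResidueField u)))

theorem exists_desc {X : Scheme.{u}} {K : Type u} [Field K] (l : Spec (CommRingCat.of K) ⟶ X) :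
    ∃ ψ : X.residueField (l (IsLocalRing.closedPoint K)) ⟶ CommRingCat.of K,
      Spec.map ψ ≫ X.fromSpecResidueField _ = l :=
  ⟨_, Scheme.descResidueField_stalkClosedPointTo_fromSpecResidueField K X l⟩

theorem exists_residue_map {U U' : Over S} (g : U' ⟶ U) {u' : U'.left} {u : U.left}
    (h : g.left u' = u) : ∃ m : ptOf u' ⟶ ptOf u, m ≫ jOf u = jOf u' ≫ g := by
  subst h
  exact ⟨Over.homMk (Spec.map (g.left.residueFieldMap u')) (by
      change Spec.map _ ≫ U.left.fromSpecResidueField _ ≫ U.hom = _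
      rw [Scheme.Hom.SpecMap_residueFieldMap_fromSpecResidueField_assoc, Over.w g]
      rfl),
    Over.OverMorphism.ext (Scheme.Hom.SpecMap_residueFieldMap_fromSpecResidueField _ _)⟩

theorem mono_jOf_comp {U : Over S} {a : (yon S).obj U ⟶ F} {u : U.left}
    (h : Mono (FieldPt.ofPt a u).toHom) : Mono ((yon S).map (jOf u) ≫ a) := by
  rw [FieldPt.toHom_ofPt] at h
  exact h

/-- Residue field points with mono representatives of the same class are isomorphic. -/
theorem exists_pt_map (hd : Representable (Limits.diag F)) {U₁ U₂ : Over S} {a₁ : (yon S).obj U₁ ⟶ F}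
    {a₂ : (yon S).obj U₂ ⟶ F} {u₁ : U₁.left} {u₂ : U₂.left} {x : Points F}
    (h₁ : IsElemEtaleNbhd a₁ u₁ x) (h₂ : IsElemEtaleNbhd a₂ u₂ x) :
    ∃ m : ptOf u₁ ⟶ ptOf u₂,
      (yon S).map m ≫ (yon S).map (jOf u₂) ≫ a₂ = (yon S).map (jOf u₁) ≫ a₁ := by
  have := mono_jOf_comp h₂.mono
  let q₁ := (yon S).map (jOf u₁) ≫ a₁
  let q₂ := (yon S).map (jOf u₂) ≫ a₂
  have hr : Representable q₂ := Functor.relativelyRepresentable.of_diag hd q₂
  have sq := hr.isPullback q₁
  let s := hr.snd q₁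
  have : Mono ((yon S).map s) := sq.mono_snd_of_mono
  have := mono_left s
  have e : ∀ {U : Over S} (a : (yon S).obj U ⟶ F) (u : U.left) (t : (ptOf u).left),
      Points.map ((yon S).map (jOf u) ≫ a) (Points.ofScheme (ptOf u) t) = Points.ofPt a u := by
    intro U a u t
    rw [← Points.ofPt_eq_map_ofScheme, ofPt_map_comp]
    exact congrArg _ (U.left.fromSpecResidueField_apply u t)
  obtain ⟨w, -, -⟩ := exists_point_lift sq (Points.ofScheme (ptOf u₂) (IsLocalRing.closedPoint _))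
    (Points.ofScheme (ptOf u₁) (IsLocalRing.closedPoint _))
    (by rw [e, e, h₁.ofPt_eq, h₂.ofPt_eq])
  have : Nonempty (hr.pullback q₁).left := ⟨Points.toScheme _ w⟩
  have : IsIso s.left := AlgSpace.isIso_of_mono_field (K := U₁.left.residueField u₁) s.left
  have : IsIso ((Over.forget S).map s) := inferInstanceAs (IsIso s.left)
  have : IsIso s := isIso_of_reflects_iso s (Over.forget S)
  obtain ⟨r, hr'⟩ := (yon S).map_surjective (hr.fst q₁)
  refine ⟨inv s ≫ r, ?_⟩
  rw [Functor.map_comp, hr', Category.assoc, sq.w, ← Category.assoc, ← Functor.map_comp,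
    IsIso.inv_hom_id, CategoryTheory.Functor.map_id, Category.id_comp]

/-- A chart through which an elementary neighbourhood's point lifts is elementary at the lift. -/
theorem isElem_of_lift {U U₁ : Over S} {a : (yon S).obj U ⟶ F} {a₁ : (yon S).obj U₁ ⟶ F}
    {u₁ : U₁.left} {x : Points F} (h₁ : IsElemEtaleNbhd a₁ u₁ x) (ha : RepWith @Etale a) (g : U ⟶ U₁)
    (hg : (yon S).map g ≫ a₁ = a) (l : ptOf u₁ ⟶ U) (hl : l ≫ g = jOf u₁) :
    IsElemEtaleNbhd a (l.left (IsLocalRing.closedPoint (U₁.left.residueField u₁))) x ∧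
      g.left (l.left (IsLocalRing.closedPoint (U₁.left.residueField u₁))) = u₁ := by
  let t := IsLocalRing.closedPoint (U₁.left.residueField u₁)
  have hgv : g.left (l.left t) = u₁ := by
    rw [← Scheme.Hom.comp_apply, ← Over.comp_left, hl]
    exact U₁.left.fromSpecResidueField_apply u₁ t
  refine ⟨⟨ha, ?_, ?_⟩, hgv⟩
  · rw [← hg, ofPt_map_comp, hgv]
    exact h₁.ofPt_eq
  obtain ⟨m, hm⟩ := exists_residue_map g hgv
  obtain ⟨ψ, hfac⟩ : ∃ ψ : U.left.residueField (l.left t) ⟶ U₁.left.residueField u₁,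
      Spec.map ψ ≫ U.left.fromSpecResidueField (l.left t) = l.left :=
    exists_desc (K := U₁.left.residueField u₁) l.left
  let n : ptOf u₁ ⟶ ptOf (l.left t) := Over.homMk (Spec.map ψ)
    ((Category.assoc _ _ _).symm.trans ((congrArg (· ≫ U.hom) hfac).trans (Over.w l)))
  have hn : n ≫ jOf (l.left t) = l := Over.OverMorphism.ext hfac
  have hnm : n ≫ m = 𝟙 _ := by
    rw [← cancel_mono (jOf u₁), Category.assoc, hm, ← Category.assoc, hn, hl, Category.id_comp]
  obtain ⟨φ, hφ⟩ := Spec.map_surjective m.left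
  have hψ : φ ≫ ψ = 𝟙 _ := Spec.map_injective (by
    rw [Spec.map_comp, hφ, Spec.map_id]
    exact (Over.comp_left _ _ _ n m).symm.trans (congrArg (Over.Hom.left) hnm))
  have : IsIso φ := by
    rw [ConcreteCategory.isIso_iff_bijective]
    refine ⟨φ.hom.injective, fun y => ⟨ψ y, ψ.hom.injective ?_⟩⟩
    exact congr($hψ (ψ y))
  have : IsIso ((Over.forget S).map m) := show IsIso m.left from hφ ▸ inferInstance
  have : IsIso m := isIso_of_reflects_iso m (Over.forget S)
  have e : (yon S).map m ≫ ((yon S).map (jOf u₁) ≫ a₁) = (yon S).map (jOf (l.left t)) ≫ a := by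
    rw [← Category.assoc, ← Functor.map_comp, hm, Functor.map_comp, Category.assoc, hg]
  have := mono_jOf_comp h₁.mono
  have hmono : Mono ((yon S).map m ≫ ((yon S).map (jOf u₁) ≫ a₁)) := inferInstance
  rw [FieldPt.toHom_ofPt]
  rw [e] at hmono
  exact hmono

theorem cofiltered₁ (hd : Representable (Limits.diag F)) {x : Points F} {U₁ U₂ : Over S}
    {a₁ : (yon S).obj U₁ ⟶ F} {a₂ : (yon S).obj U₂ ⟶ F} {u₁ : U₁.left} {u₂ : U₂.left}
    (h₁ : IsElemEtaleNbhd a₁ u₁ x) (h₂ : IsElemEtaleNbhd a₂ u₂ x) :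
    ∃ (U : Over S) (a : (yon S).obj U ⟶ F) (v : ↥U.left) (g₁ : U ⟶ U₁) (g₂ : U ⟶ U₂),
      IsElemEtaleNbhd a v x ∧ (yon S).map g₁ ≫ a₁ = a ∧ (yon S).map g₂ ≫ a₂ = a ∧
        g₁.left v = u₁ ∧ g₂.left v = u₂ := by
  obtain ⟨m, hm⟩ := exists_pt_map hd h₁ h₂
  have sq := h₂.etale.1.isPullback a₁
  obtain ⟨g₂, hg₂⟩ := (yon S).map_surjective (h₂.etale.1.fst a₁)
  rw [← hg₂] at sq
  let g₁ := h₂.etale.1.snd a₁
  have he : Etale g₁.left := h₂.etale.2 a₁ _ _ sq
  have ha : RepWith @Etale ((yon S).map g₁ ≫ a₁) :=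
    (RepWith (S := S) @Etale).comp_mem _ _ ((repWith_yon_map_iff _ _).2 he) h₁.etale
  obtain ⟨l, hl⟩ := (yon S).map_surjective (sq.lift ((yon S).map (m ≫ jOf u₂)) ((yon S).map (jOf u₁))
    (by rw [Functor.map_comp, Category.assoc, hm]))
  have hl₁ : l ≫ g₁ = jOf u₁ := (yon S).map_injective (by rw [Functor.map_comp, hl, IsPullback.lift_snd])
  have hl₂ : l ≫ g₂ = m ≫ jOf u₂ := (yon S).map_injective (by rw [Functor.map_comp, hl, IsPullback.lift_fst])
  obtain ⟨he', hv⟩ := isElem_of_lift h₁ ha g₁ rfl l hl₁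
  refine ⟨_, _, _, g₁, g₂, he', rfl, sq.w, hv, ?_⟩
  rw [← Scheme.Hom.comp_apply, ← Over.comp_left, hl₂]
  exact U₂.left.fromSpecResidueField_apply u₂ _

theorem cofiltered₂ {x : Points F} {U₁ U₂ : Over S}
    {a₁ : (yon S).obj U₁ ⟶ F} {a₂ : (yon S).obj U₂ ⟶ F} {u₁ : U₁.left} {u₂ : U₂.left} (b c : U₁ ⟶ U₂)
    (h₁ : IsElemEtaleNbhd a₁ u₁ x) (h₂ : IsElemEtaleNbhd a₂ u₂ x)
    (hb : (yon S).map b ≫ a₂ = a₁) (hc : (yon S).map c ≫ a₂ = a₁) (hbu : b.left u₁ = u₂)
    (hcu : c.left u₁ = u₂) :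
    ∃ (U : Over S) (a : (yon S).obj U ⟶ F) (v : ↥U.left) (h : U ⟶ U₁),
      IsElemEtaleNbhd a v x ∧ (yon S).map h ≫ a₁ = a ∧ h.left v = u₁ ∧ h ≫ b = h ≫ c := by
  obtain ⟨mb, hmb⟩ := exists_residue_map b hbu
  obtain ⟨mc, hmc⟩ := exists_residue_map c hcu
  have := mono_jOf_comp h₂.mono
  have hm : mb = mc := by
    refine (yon S).map_injective ((cancel_mono ((yon S).map (jOf u₂) ≫ a₂)).1 ?_)
    rw [← Category.assoc, ← Category.assoc, ← Functor.map_comp, ← Functor.map_comp, hmb, hmc,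
      Functor.map_comp, Functor.map_comp, Category.assoc, Category.assoc, hb, hc]
  have hbc : jOf u₁ ≫ b = jOf u₁ ≫ c := by rw [← hmb, ← hmc, hm]
  have sq := h₂.etale.1.isPullback a₂
  obtain ⟨π, hπ⟩ := (yon S).map_surjective (h₂.etale.1.fst a₂)
  rw [← hπ] at sq
  let ρ := h₂.etale.1.snd a₂
  have hρ : Etale ρ.left := h₂.etale.2 a₂ _ _ sq
  obtain ⟨Δ, hΔ⟩ := (yon S).map_surjective (sq.lift (𝟙 _) (𝟙 _) rfl)
  have hΔρ : Δ ≫ ρ = 𝟙 _ := (yon S).map_injective (by
    rw [Functor.map_comp, hΔ, IsPullback.lift_snd, CategoryTheory.Functor.map_id])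
  have hΔπ : Δ ≫ π = 𝟙 _ := (yon S).map_injective (by
    rw [Functor.map_comp, hΔ, IsPullback.lift_fst, CategoryTheory.Functor.map_id])
  obtain ⟨p, hp⟩ := (yon S).map_surjective (sq.lift ((yon S).map b) ((yon S).map c) (hb.trans hc.symm))
  have hpρ : p ≫ ρ = c := (yon S).map_injective (by rw [Functor.map_comp, hp, IsPullback.lift_snd])
  have hpπ : p ≫ π = b := (yon S).map_injective (by rw [Functor.map_comp, hp, IsPullback.lift_fst])
  have : Etale (Δ.left ≫ ρ.left) := by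
    rw [← Over.comp_left, hΔρ]
    exact inferInstanceAs (Etale (𝟙 U₂.left))
  have hΔe : Etale Δ.left := Etale.of_comp Δ.left ρ.left
  have sqE := IsPullback.of_hasPullback p Δ
  let g := pullback.fst p Δ
  have hge : Etale g.left :=
    MorphismProperty.of_isPullback (P := @Etale) (sqE.map (Over.forget S)).flip hΔe
  have ha : RepWith @Etale ((yon S).map g ≫ a₁) :=
    (RepWith (S := S) @Etale).comp_mem _ _ ((repWith_yon_map_iff _ _).2 hge) h₁.etale
  have hl : jOf u₁ ≫ p = (jOf u₁ ≫ b) ≫ Δ := (yon S).map_injective (sq.hom_ext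
    (by rw [← Functor.map_comp, ← Functor.map_comp, Category.assoc, hpπ, Category.assoc, hΔπ,
      Category.comp_id])
    (by rw [← Functor.map_comp, ← Functor.map_comp, Category.assoc, hpρ, Category.assoc, hΔρ,
      Category.comp_id, hbc]))
  let l := sqE.lift (jOf u₁) (jOf u₁ ≫ b) hl
  obtain ⟨he, hv⟩ := isElem_of_lift h₁ ha g rfl l (sqE.lift_fst _ _ _)
  refine ⟨_, _, _, g, he, rfl, hv, ?_⟩
  have e : g ≫ p = pullback.snd p Δ ≫ Δ := sqE.w
  rw [← hpπ, ← hpρ, reassoc_of% e, reassoc_of% e, hΔπ, hΔρ]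

end Groth.Agent.ElemNbhd15
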