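import Groth.Agent.Lib.Hens.EssEtale
import Groth.Agent.Lib.AlgSpace.UI
import Groth.Agent.Lib.AlgSpDecent.MonoPointApps
import Groth.Agent.Lib.AlgSpDecent.Basic
import Groth.Prelude.Def_AlgSpDec
import Groth.Prelude.Def_Hensel

/-!
# Elementary etale neighbourhoods and henselizations
-/

universe u

set_option backward.isDefEq.respectTransparency.types false

open CategoryTheory CategoryTheory.Limits AlgebraicGeometry AlgSp IsLocalRing

namespace Groth.Agent.ElemNbhd15

/-- A henselization of a local etale algebra with trivial residue extension is a henselization. -/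
theorem isHenselization_of_etale {A B : Type u} [CommRing A] [IsLocalRing A] [CommRing B] [IsLocalRing B]
    [Algebra A B] [IsLocalHom (algebraMap A B)] {R D : Type u} [CommRing R] [CommRing D] [Algebra R D]
    [Algebra.Etale R D] [Algebra R A] [Algebra D B] [Algebra R B] [IsScalarTower R D B] [IsScalarTower R A B]
    (p : Ideal R) [p.IsPrime] [IsLocalization.AtPrime A p] (q : Ideal D) [q.IsPrime] [IsLocalization.AtPrime B q]
    (hres : Function.Bijective (ResidueField.map (algebraMap A B)))
    (T : Type u) [CommRing T] [IsLocalRing T] [Algebra B T] [IsLocalHom (algebraMap B T)]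
    [Hensel.IsHenselization B T] [Algebra A T] [IsScalarTower A B T] [IsLocalHom (algebraMap A T)] :
    Hensel.IsHenselization A T := by
  have : Algebra.FormallyEtale D B := Algebra.FormallyEtale.of_isLocalization q.primeCompl
  have : Algebra.EssFiniteType D B := Algebra.EssFiniteType.of_isLocalization B q.primeCompl
  have : Algebra.FormallyUnramified R B := Algebra.FormallyUnramified.comp R D B
  have : Algebra.FormallyUnramified A B := Algebra.FormallyUnramified.of_restrictScalars R A B
  have : Algebra.EssFiniteType R B := Algebra.EssFiniteType.comp R D B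
  have : Algebra.EssFiniteType A B := Algebra.EssFiniteType.of_comp R A B
  refine ⟨Hensel.IsHenselization.henselian (R := B), fun C _ _ f hf => ?_⟩
  have : IsLocalHom f := hf
  let e := RingEquiv.ofBijective _ hres
  let σB : B →+* ResidueField C := ((ResidueField.map f).comp e.symm.toRingHom).comp (residue B)
  have hσA : ∀ a, σB (algebraMap A B a) = residue C (f a) := fun a => by
    show ResidueField.map f (e.symm (residue B (algebraMap A B a))) = _
    rw [show residue B (algebraMap A B a) = e (residue A a) from rfl, RingEquiv.symm_apply_apply,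
      ResidueField.map_residue]
  let _ : Algebra R C := (f.comp (algebraMap R A)).toAlgebra
  let σD : D →ₐ[R] ResidueField C :=
    { σB.comp (algebraMap D B) with
      commutes' := fun r => by
        show σB (algebraMap D B (algebraMap R D r)) = _
        rw [← IsScalarTower.algebraMap_apply, IsScalarTower.algebraMap_apply R A B, hσA]
        rfl }
  obtain ⟨τ, hτ, -⟩ := Hens.existsUnique_algHom_lift (R := R) (T := C)
    (Hens.henselianRing_maximalIdeal C) σD
  have hτ' : ∀ d, residue C (τ d) = σB (algebraMap D B d) := fun d => congr($hτ d)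
  have hunit : ∀ d : q.primeCompl, IsUnit (τ.toRingHom d) := fun d => by
    rw [← residue_ne_zero_iff_isUnit, show τ.toRingHom (d : D) = τ d from rfl, hτ']
    exact ((IsLocalization.map_units B d).map σB).ne_zero
  let g : B →+* C := IsLocalization.lift hunit
  have hg : g.comp (algebraMap A B) = f := IsLocalization.ringHom_ext p.primeCompl (RingHom.ext fun r => by
    show g (algebraMap A B (algebraMap R A r)) = f (algebraMap R A r)
    rw [← IsScalarTower.algebraMap_apply, IsScalarTower.algebraMap_apply R D B, IsLocalization.lift_eq]
    exact τ.commutes r)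
  have hu : ∀ g' : B →+* C, g'.comp (algebraMap A B) = f → g' = g ∧ IsLocalHom g' := by
    intro g' hg'
    have hl : ∀ h : B →+* C, h.comp (algebraMap A B) = f → ∀ x, residue C (h x) = σB x := by
      intro h hh x
      have hmax : ∀ y ∈ maximalIdeal B, residue C (h y) = 0 := by
        intro y hy
        rw [← Algebra.FormallyUnramified.map_maximalIdeal (R := A)] at hy
        have hle : (maximalIdeal A).map (algebraMap A B) ≤ (maximalIdeal C).comap h := by
          rw [Ideal.map_le_iff_le_comap, Ideal.comap_comap, hh]
          exact fun a ha => map_nonunit f a ha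
        exact (residue_eq_zero_iff _).2 (hle hy)
      obtain ⟨a, ha⟩ := residue_surjective (e.symm (residue B x))
      have hx : x - algebraMap A B a ∈ maximalIdeal B := by
        rw [← residue_eq_zero_iff, map_sub, sub_eq_zero,
          show residue B (algebraMap A B a) = e (residue A a) from rfl, ha, RingEquiv.apply_symm_apply]
      have := hmax _ hx
      rw [map_sub, map_sub, sub_eq_zero, show h (algebraMap A B a) = f a from congr($hh a)] at this
      rw [this]
      show _ = ResidueField.map f (e.symm (residue B x))
      rw [← ha, ResidueField.map_residue]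
    let _ := f.toAlgebra
    refine ⟨?_, Hens.isLocalHom_of_residue g' ((ResidueField.map f).comp e.symm.toRingHom) (hl g' hg')⟩
    have := Hens.algHom_ext_of_le_jacobson (A := A) (E := B) (maximalIdeal_le_jacobson (⊥ : Ideal C))
      (f := { g' with commutes' := fun a => congr($hg' a) })
      (g := { g with commutes' := fun a => congr($hg a) }) fun x => by
        rw [← residue_eq_zero_iff, map_sub, sub_eq_zero]
        exact (hl g' hg' x).trans (hl g hg x).symm
    exact congrArg AlgHom.toRingHom this
  obtain ⟨G, hG, hGu⟩ := Hensel.IsHenselization.universal (R := B) (S := T) C g (hu g hg).2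
  refine ⟨G, ?_, fun G' hG' => hGu G' ((hu _ ?_).1)⟩
  · show G.comp (algebraMap A T) = f
    rw [IsScalarTower.algebraMap_eq A B T, ← RingHom.comp_assoc]
    show (G.comp (algebraMap B T)).comp (algebraMap A B) = f
    rw [hG, hg]
  · show (G'.comp (algebraMap B T)).comp (algebraMap A B) = f
    rw [RingHom.comp_assoc, ← IsScalarTower.algebraMap_eq A B T]
    exact hG'

variable {S : Scheme.{u}}

/-- A morphism of etale charts is etale. -/
theorem etale_of_diagram {F : Sp S} {U U' : Over S} {a : (yon S).obj U ⟶ F} {a' : (yon S).obj U' ⟶ F}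
    (ha : RepWith @Etale a) (ha' : RepWith @Etale a') (g : U' ⟶ U) (w : (yon S).map g ≫ a = a') :
    Etale g.left := by
  obtain ⟨p, hp⟩ := (yon S).map_surjective (ha'.1.fst a)
  have sq := ha'.1.isPullback a
  rw [← hp] at sq
  have hsn : Etale (ha'.1.snd a).left := ha'.2 a _ _ sq
  have sq' := ha.1.isPullback a'
  obtain ⟨q, hq⟩ := (yon S).map_surjective (ha.1.fst a')
  rw [← hq] at sq'
  have hs : Etale (ha.1.snd a').left := ha.2 a' _ _ sq'
  have hq' : Etale q.left := ha'.2 a _ q sq'.flip
  obtain ⟨σ, hσ⟩ := (yon S).map_surjective (sq'.lift ((yon S).map g) (𝟙 _)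
    (by rw [w, Category.id_comp]))
  have h1 : σ ≫ q = g := (yon S).map_injective (by rw [Functor.map_comp, hσ, IsPullback.lift_fst])
  have h2 : σ ≫ ha.1.snd a' = 𝟙 _ := (yon S).map_injective (by
    rw [Functor.map_comp, hσ, IsPullback.lift_snd, CategoryTheory.Functor.map_id])
  have : Etale (σ.left ≫ (ha.1.snd a').left) := by
    rw [← Over.comp_left, h2]
    exact inferInstanceAs (Etale (𝟙 U'.left))
  have : Etale σ.left := Etale.of_comp σ.left (ha.1.snd a').left
  rw [← h1, Over.comp_left]
  infer_instance

/-- Elementary neighbourhoods have trivial residue extensions. -/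
theorem bijective_residueFieldMap {F : Sp S} {U U' : Over S} {a : (yon S).obj U ⟶ F}
    {a' : (yon S).obj U' ⟶ F} (g : U' ⟶ U) (w : (yon S).map g ≫ a = a') (u' : U'.left)
    (h : Mono (FieldPt.ofPt a' u').toHom) :
    Function.Bijective (g.left.residueFieldMap u').hom := by
  let T' : Over S := Over.mk (U'.left.fromSpecResidueField u' ≫ U'.hom)
  let T : Over S := Over.mk (U.left.fromSpecResidueField (g.left u') ≫ U.hom)
  let r : T' ⟶ T := Over.homMk (Spec.map (g.left.residueFieldMap u')) (by
    change Spec.map _ ≫ U.left.fromSpecResidueField _ ≫ U.hom = _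
    rw [Scheme.Hom.SpecMap_residueFieldMap_fromSpecResidueField_assoc, Over.w g]
    rfl)
  let j : T ⟶ U := Over.homMk (U.left.fromSpecResidueField (g.left u')) rfl
  let j' : T' ⟶ U' := Over.homMk (U'.left.fromSpecResidueField u') rfl
  have hq : r ≫ j = j' ≫ g :=
    Over.OverMorphism.ext (Scheme.Hom.SpecMap_residueFieldMap_fromSpecResidueField _ _)
  have e : (yon S).map r ≫ (FieldPt.ofPt a (g.left u')).toHom = (FieldPt.ofPt a' u').toHom :=
    calc (yon S).map r ≫ (FieldPt.ofPt a (g.left u')).toHom
        = (yon S).map r ≫ ((yon S).map j ≫ a) := congrArg _ (FieldPt.toHom_ofPt a (g.left u'))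
      _ = (yon S).map j' ≫ ((yon S).map g ≫ a) := by
        rw [← Category.assoc, ← Category.assoc, ← Functor.map_comp, ← Functor.map_comp, hq]
      _ = (FieldPt.ofPt a' u').toHom := by
        rw [w]
        exact (FieldPt.toHom_ofPt a' u').symm
  have hm : Mono ((yon S).map r ≫ (FieldPt.ofPt a (g.left u')).toHom) := by rw [e]; exact h
  have : Mono ((yon S).map r) := mono_of_mono _ (FieldPt.ofPt a (g.left u')).toHom
  have : Mono r.left := AlgSpDecent.mono_left r
  have : Nonempty ↥T'.left := ⟨IsLocalRing.closedPoint _⟩
  have : IsIso (Spec.map (g.left.residueFieldMap u')) :=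
    AlgSpace.isIso_of_mono_field (K := U.left.residueField (g.left u')) r.left
  have : IsIso (Scheme.Spec.map (g.left.residueFieldMap u').op) := this
  have : IsIso (g.left.residueFieldMap u').op := isIso_of_reflects_iso _ Scheme.Spec
  have : IsIso (g.left.residueFieldMap u') := isIso_of_op _
  exact ConcreteCategory.bijective_of_isIso (g.left.residueFieldMap u')

end Groth.Agent.ElemNbhd15
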